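import Cfsg.Agent.H570.TwoB.SuzSix
import Cfsg.Agent.H570.TwoB.RadNine
import Cfsg.Agent.H480.Ore.BFiType
import Cfsg.Agent.H844.Ore.BThree

/-!
# The elements of order nine of the Baby Monster (helper570)

* `mon_nine` : `y` in the Monster with `y ^ 3 = x` of order 3, commuting with `t` of class 2A: `|C(y) ∩ C(t)| ≤ 2448880128`
  or `FiType t x`;
* `nine_le` : **`|C_B(y)| ≤ 1224440064`** for `y` of order nine in the Baby Monster.

The reduction is that of helper494 (`H494/TwoB/Nine.lean`); the bound uses `|C_Suz(v) ∩ C_Suz(w)| ≤ 6912`.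
-/

set_option autoImplicit false
set_option maxRecDepth 100000

namespace Cfsg.Agent.H570.TwoB.Nine

open Cfsg Cfsg.Agent Cfsg.Agent.MonsterX Cfsg.Agent.MonsterX.InstData Cfsg.Agent.MonsterX.MainPack Cfsg.Agent.MonsterU
open Cfsg.Agent.MonsterP Cfsg.Agent.MonsterN Cfsg.Agent.LThree Cfsg.Agent.LThreeMB
open Cfsg.Agent.MonsterX.MainBasic Cfsg.Agent.MonsterX.MainSimple Cfsg.Agent.MonsterX.Model
open Cfsg.Agent.LThreeB (XT mem_XT centXT centXT' conjXT)
open Subgroup (centralizer mem_centralizer_singleton_iff center card_dvd_of_le zpowers)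
open Cfsg.Spor (Co1)
open Cfsg.Agent.H979.BAdj Cfsg.Agent.H979.CovLift Cfsg.Agent.H979.OddB
open Cfsg.Agent.H630.NH Cfsg.Agent.H241.NH Cfsg.Agent.H630.Baby
open Cfsg.Agent.H844.Ore
open Cfsg.Agent.BpSpor.M5

universe u v

section abs

/-- **The situation `Rad` over `Suz`.** -/
theorem rad_le {D : Type u} [Group D] [Finite D] {z x : D} {N : Subgroup D} {A : Type v} [Group A] [Finite A]
    [IsSimpleGroup A] {f : ↥(centralizer ({z} : Set D)) →* A} (hns : ¬ Group.IsSolvable A) (hN : Rad 3 z x N f)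
    (hNd : Nat.card ↥N ∣ 3 ^ 13) (hS : Spor.IsoSuz A) {t : D} (htt : t * t = 1) (ht1 : t ≠ 1)
    (htz : ∀ d : D, d * t * d⁻¹ ≠ z) (h14 : ¬ 3 ^ 14 ∣ Nat.card ↥(centralizer ({t} : Set D))) {y : D} (hy : y ^ 3 = x)
    (hyt : y * t = t * y) :
    Nat.card ↥(centralizer ({t} : Set D) ⊓ centralizer ({y} : Set D) : Subgroup D) ≤ 2448880128 := by
  have hp : Fact (Nat.Prime 3) := ⟨Nat.prime_three⟩
  obtain ⟨d, hd⟩ := BThree.exists_conj_mem (centralizer ({z} : Set D)) (BThree.index_odd hN) htt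
  obtain ⟨τ, hτ⟩ : ∃ τ, d * t * d⁻¹ = τ := ⟨_, rfl⟩
  rw [hτ] at hd
  have hτz : τ * z = z * τ := mem_centralizer_singleton_iff.1 hd
  have hττ : τ * τ = 1 := by
    rw [← hτ]
    calc d * t * d⁻¹ * (d * t * d⁻¹) = d * (t * t) * d⁻¹ := by group
      _ = 1 := by rw [htt]; group
  have hτ1 : τ ≠ 1 := by
    rw [← hτ]
    intro h1
    rw [conj_eq_one_iff] at h1
    exact ht1 h1
  have hτne : τ ≠ z := by
    rw [← hτ]
    exact htz d
  have hcc : Nat.card ↥(centralizer ({t} : Set D)) = Nat.card ↥(centralizer ({τ} : Set D)) :=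
    MThirteen.card_cent_conj (isConj_iff.2 ⟨d, hτ⟩)
  rw [hcc] at h14
  -- the conjugate of `y`
  obtain ⟨w, hw⟩ : ∃ w, w = d * y * d⁻¹ := ⟨_, rfl⟩
  have hw3 : w ^ 3 = x := by
    rw [hw, conj_pow, hy, hN.xc d, mul_inv_cancel_right]
  have hwτ : w * τ = τ * w := by
    rw [hw, ← hτ]
    calc d * y * d⁻¹ * (d * t * d⁻¹) = d * (y * t) * d⁻¹ := by group
      _ = d * (t * y) * d⁻¹ := by rw [hyt]
      _ = _ := by group
  have hle : Nat.card ↥(centralizer ({t} : Set D) ⊓ centralizer ({y} : Set D) : Subgroup D) ≤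
      Nat.card ↥(centralizer ({τ} : Set D) ⊓ centralizer ({w} : Set D) : Subgroup D) := by
    have key : ∀ g a b : D, d * a * d⁻¹ = b → g * a = a * g → (d * g * d⁻¹) * b = b * (d * g * d⁻¹) := by
      intro g a b hab hg
      rw [← hab]
      calc d * g * d⁻¹ * (d * a * d⁻¹) = d * (g * a) * d⁻¹ := by group
        _ = d * (a * g) * d⁻¹ := by rw [hg]
        _ = _ := by group
    refine Nat.card_le_card_of_injective
      (fun g : ↥(centralizer ({t} : Set D) ⊓ centralizer ({y} : Set D) : Subgroup D) =>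
        (⟨d * g * d⁻¹, mem_centralizer_singleton_iff.2 (key g t τ hτ (mem_centralizer_singleton_iff.1 g.2.1)),
          mem_centralizer_singleton_iff.2 (key g y w hw.symm (mem_centralizer_singleton_iff.1 g.2.2))⟩ :
          ↥(centralizer ({τ} : Set D) ⊓ centralizer ({w} : Set D) : Subgroup D))) ?_
    intro a b hab
    have h1 : d * (a : D) * d⁻¹ = d * (b : D) * d⁻¹ := congrArg
      (fun a : ↥(centralizer ({τ} : Set D) ⊓ centralizer ({w} : Set D) : Subgroup D) => (a : D)) hab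
    exact Subtype.ext (mul_left_cancel (mul_right_cancel h1))
  refine hle.trans ?_
  have h1 := RadNine.rad_nine hns hN hττ hτ1 hτz hτne hw3 hwτ (m := 6912)
    (fun v w hv hw hwo hc => SuzSix.pair_le hS hv hw hwo hc)
  refine h1.trans ?_
  -- the order of `N ∩ C(τ)`
  obtain ⟨m, hm1, hm2, hm3⟩ := BAbs.card_cent hns hN hττ hτz
  rw [hm1] at h14
  obtain ⟨v, hv⟩ : ∃ v, f ⟨τ, mem_centralizer_singleton_iff.2 hτz⟩ = v := ⟨_, rfl⟩
  rw [hv] at hm2 hm3
  have hvv : v * v = 1 := by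
    rw [← hv, ← map_mul]
    have h1 : (⟨τ, mem_centralizer_singleton_iff.2 hτz⟩ : ↥(centralizer ({z} : Set D))) *
        ⟨τ, mem_centralizer_singleton_iff.2 hτz⟩ = 1 := Subtype.ext hττ
    rw [h1, map_one]
  have hv1 : v ≠ 1 := by
    intro h1
    rw [← hv] at h1
    obtain ⟨i, hi | hi⟩ := hN.ker _ h1
    · have h2 : τ = x ^ i := hi
      have h3 := hN.sq_one (by norm_num) (i := i) (by rw [← h2, hττ])
      rw [h3] at h2
      exact hτ1 h2
    · have h2 : τ = x ^ i * z := hi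
      have h4 : x ^ i * x ^ i = 1 := by
        have h5 := hN.xzc i z
        calc x ^ i * x ^ i = x ^ i * x ^ i * (z * z) := by rw [hN.zz, mul_one]
          _ = x ^ i * (x ^ i * z) * z := by group
          _ = x ^ i * (z * x ^ i) * z := by rw [h5]
          _ = (x ^ i * z) * (x ^ i * z) := by group
          _ = 1 := by rw [← h2, hττ]
      rw [hN.sq_one (by norm_num) h4, one_mul] at h2
      exact hτne h2
  obtain ⟨k, hk⟩ : ∃ k, Nat.card ↥(N ⊓ centralizer ({τ} : Set D) : Subgroup D) = k := ⟨_, rfl⟩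
  have hkd : k ∣ 3 ^ 13 := hk ▸ (card_dvd_of_le inf_le_left).trans hNd
  rw [hk] at h14 ⊢
  obtain ⟨j, -, hj⟩ := (Nat.dvd_prime_pow Nat.prime_three).1 hkd
  rw [hj] at h14 ⊢
  have hj11 : j ≤ 11 := by
    have h7 : 3 ^ 2 ∣ 2 * m := by
      rcases BThree.suz_card hS v hvv hv1 with h5 | h5
      · rw [h5] at hm3
        exact (by norm_num : 3 ^ 2 ∣ 3317760).trans hm3
      · rw [h5] at hm3
        exact (by norm_num : 3 ^ 2 ∣ 161280).trans hm3
    by_contra hcon
    apply h14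
    refine Dvd.dvd.trans ?_ (mul_dvd_mul (pow_dvd_pow 3 (show 12 ≤ j by omega)) h7)
    norm_num
  calc 3 ^ j * (2 * 6912) ≤ 3 ^ 11 * (2 * 6912) := Nat.mul_le_mul_right _ (Nat.pow_le_pow_right (by norm_num) hj11)
    _ = 2448880128 := by norm_num

end abs

/-! ### The Monster -/

/-- **Fixed rank 0.** -/
theorem zero_nine {x : centralizer ({KDone.K.z} : Set Mon)} (hx : orderOf x = 3)
    (hfr : fr (KChart.pi LThreeB.Row.cent x) = 1) {t : Mon} (hto : orderOf t = 2)
    (htz : ∀ g : Mon, g * t * g⁻¹ ≠ KDone.K.z) (htx : t * (x : Mon) = x * t)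
    (h14 : ¬ 3 ^ 14 ∣ Nat.card ↥(XT (x : Mon) t)) {y : Mon} (hy : y ^ 3 = x) (hyt : y * t = t * y) :
    Nat.card ↥(XT y t) ≤ 2448880128 := by
  have hfin : Finite Mon := MThirteen.Row.finite
  have h := chart
  have hp : Fact (Nat.Prime 3) := ⟨Nat.prime_three⟩
  have htr := MThirteen.Row.trNe
  have hS : Spor.IsoSuz (XX (KChart.pi LThreeB.Row.cent x)) := CoOneFin.coOne.suz _ (orderOf_pi h hx) hfr
  have hcS : Nat.card (XX (KChart.pi LThreeB.Row.cent x)) = 448345497600 := by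
    obtain ⟨e⟩ := hS
    rw [Nat.card_congr e.toEquiv]
    exact SporadicRecognition.SuzOrder.card_Suz
  have hs : IsSimpleGroup (XX (KChart.pi LThreeB.Row.cent x)) := by
    obtain ⟨e⟩ := hS
    exact (MulEquiv.isSimpleGroup_congr e).2 Cfsg.Agent.S1694.result.1
  have hns : ¬ Group.IsSolvable (XX (KChart.pi LThreeB.Row.cent x)) :=
    H199.NSmMon.not_solvable hs hcS (by norm_num) (by norm_num)
  have hfS : Finite (XX (KChart.pi LThreeB.Row.cent x)) := Nat.finite_of_card_ne_zero (by rw [hcS]; norm_num)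
  obtain ⟨N, hN⟩ := BpSpor.M5.exists_rad h (by norm_num) hx hfr (fun d hd hc => isolated h htr hx hfr d hd hc)
    hs (by rw [hcS]; decide)
  -- the order of `N`
  have hNd : Nat.card ↥N ∣ 3 ^ 13 := by
    obtain ⟨m, hm, hcm⟩ := hN.card_N_mul hns
    have h1 := H199.AbMon.three_zero' hx hfr
    have h2 : Nat.card ↥N * (448345497600 * m) ∣ 3 ^ 13 * (448345497600 * 2) := by
      rw [hcS] at hcm
      rw [← hcm]
      exact h1
    have h3 : Nat.card ↥N ∣ 3 ^ 13 * 2 := by
      refine Nat.dvd_of_mul_dvd_mul_right (show 0 < 448345497600 by norm_num) ?_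
      refine (Dvd.intro m (by ring)).trans (h2.trans (by norm_num))
    refine Nat.Coprime.dvd_of_dvd_mul_right ?_ h3
    exact Nat.coprime_two_right.2 hN.oN
  have hXT : Nat.card ↥(XT (x : Mon) t) = Nat.card ↥(centralizer
      ({⟨t, mem_centralizer_singleton_iff.2 htx⟩} : Set ↥(centralizer ({(x : Mon)} : Set Mon)))) :=
    (Nat.card_congr (centXT' (⟨t, mem_centralizer_singleton_iff.2 htx⟩ : ↥(centralizer ({(x : Mon)} : Set Mon)))).toEquiv).symm
  rw [hXT] at h14
  have hyx : y * (x : Mon) = x * y := by rw [← hy]; exact (Commute.refl y).pow_right 3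
  have h1 := rad_le hns hN hNd hS (t := ⟨t, mem_centralizer_singleton_iff.2 htx⟩) (Subtype.ext (by
      show t * t = 1
      rw [← pow_two, ← hto, pow_orderOf_eq_one])) (fun h1 => by
      have h2 : t = 1 := congrArg Subtype.val h1
      rw [h2, orderOf_one] at hto
      omega) (fun d h1 => htz (d : Mon) (congrArg Subtype.val h1)) h14
    (y := ⟨y, mem_centralizer_singleton_iff.2 hyx⟩) (Subtype.ext hy) (Subtype.ext hyt)
  refine le_trans ?_ h1
  refine Nat.card_le_card_of_injective (fun c : ↥(XT y t) =>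
    (⟨⟨(c : Mon), mem_centralizer_singleton_iff.2 ?_⟩, mem_centralizer_singleton_iff.2 (Subtype.ext (mem_XT.1 c.2).2),
      mem_centralizer_singleton_iff.2 (Subtype.ext (mem_XT.1 c.2).1)⟩ : ↥((centralizer
      ({⟨t, mem_centralizer_singleton_iff.2 htx⟩} : Set ↥(centralizer ({(x : Mon)} : Set Mon)))) ⊓ (centralizer
      ({⟨y, mem_centralizer_singleton_iff.2 hyx⟩} : Set ↥(centralizer ({(x : Mon)} : Set Mon)))) :
        Subgroup ↥(centralizer ({(x : Mon)} : Set Mon))))) ?_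
  · rw [← hy]
    exact ((show Commute (c : Mon) y from (mem_XT.1 c.2).1).pow_right 3).eq
  · intro a b hab
    have h2 : (a : Mon) = b := congrArg (fun g : ↥((centralizer
      ({⟨t, mem_centralizer_singleton_iff.2 htx⟩} : Set ↥(centralizer ({(x : Mon)} : Set Mon)))) ⊓ (centralizer
      ({⟨y, mem_centralizer_singleton_iff.2 hyx⟩} : Set ↥(centralizer ({(x : Mon)} : Set Mon)))) :
        Subgroup ↥(centralizer ({(x : Mon)} : Set Mon))) => ((g : ↥(centralizer ({(x : Mon)} : Set Mon))) : Mon)) hab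
    exact Subtype.ext h2

/-- **`x = y ^ 3` of order 3 in the Monster, `y` commuting with `t` of class 2A.** -/
theorem mon_nine {x t y : Mon} (hx : orderOf x = 3) (ht : LThreeB.Row.TA t) (hxt : x * t = t * x)
    (h14 : ¬ 3 ^ 14 ∣ Nat.card ↥(XT x t)) (hy : y ^ 3 = x) (hyt : y * t = t * y) :
    Nat.card ↥(XT y t) ≤ 2448880128 ∨ FiType t x := by
  have hfin : Finite Mon := MThirteen.Row.finite
  have hsim : IsSimpleGroup Mon := MThirteen.Row.simple
  have h := chart
  have I := CoOneFin.coOne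
  have hto := MThirteen.Row.ta_order ht
  have htt : t * t = 1 := by rw [← pow_two, ← hto, pow_orderOf_eq_one]
  have ht1 : t ≠ 1 := by
    rintro rfl
    rw [orderOf_one] at hto
    omega
  have htz : ¬ IsConj KDone.K.z t := by
    intro h1
    obtain ⟨c, hc⟩ := isConj_iff.1 h1
    exact MThirteen.Row.ta_ne ht c⁻¹ (by rw [← hc]; group)
  obtain ⟨g, hg, -⟩ := LThreeM.FiRow.exists_z_in (x := x) (v := t) (by rw [← hx, pow_orderOf_eq_one]) ht hxt
  have h1 : (g⁻¹ * x * g⁻¹⁻¹) * KDone.K.z = KDone.K.z * (g⁻¹ * x * g⁻¹⁻¹) := by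
    calc (g⁻¹ * x * g⁻¹⁻¹) * KDone.K.z = g⁻¹ * (x * (g * KDone.K.z * g⁻¹)) * g := by group
      _ = g⁻¹ * ((g * KDone.K.z * g⁻¹) * x) * g := by rw [hg]
      _ = KDone.K.z * (g⁻¹ * x * g⁻¹⁻¹) := by group
  obtain ⟨x', hyx⟩ : ∃ y : centralizer ({KDone.K.z} : Set Mon), (y : Mon) = g⁻¹ * x * g⁻¹⁻¹ :=
    ⟨⟨g⁻¹ * x * g⁻¹⁻¹, mem_centralizer_singleton_iff.2 h1⟩, rfl⟩
  have hx' : orderOf x' = 3 := by
    rw [← Subgroup.orderOf_coe, hyx, ← hx]
    exact MulEquiv.orderOf_eq (MulAut.conj g⁻¹) x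
  have hx'' : orderOf (x' : Mon) = 3 := by rw [Subgroup.orderOf_coe, hx']
  have hcj : ∀ k : Mon, (k * y * k⁻¹) ^ 3 = k * x * k⁻¹ := fun k => by rw [conj_pow, hy]
  have hcj2 : ∀ k : Mon, (k * y * k⁻¹) * (k * t * k⁻¹) = (k * t * k⁻¹) * (k * y * k⁻¹) :=
    fun k => LThreeB.conj_comm' hyt
  set t' : Mon := g⁻¹ * t * g⁻¹⁻¹ with ht'
  have hto' : orderOf t' = 2 := by
    rw [← hto]
    exact MulEquiv.orderOf_eq (MulAut.conj g⁻¹) t
  have htz' : ∀ g' : Mon, g' * t' * g'⁻¹ ≠ KDone.K.z := by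
    intro g' hg'
    refine MThirteen.Row.ta_ne ht (g' * g⁻¹) ?_
    rw [← hg', ht']
    group
  have hyt' : (x' : Mon) * t' = t' * x' := by
    rw [hyx]
    exact LThreeB.conj_comm' hxt
  have hXT := card_XT_conj g⁻¹ x t
  rw [← hyx] at hXT
  rw [← hXT] at h14
  rcases I.ranks (KChart.pi LThreeB.Row.cent x') (orderOf_pi h hx') with h2 | h2 | h2 | h2
  · left
    rw [← card_XT_conj g⁻¹ y t]
    exact zero_nine hx' h2 hto' htz' hyt'.symm h14 (y := g⁻¹ * y * g⁻¹⁻¹) (by rw [hyx]; exact hcj g⁻¹) (hcj2 g⁻¹)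
  · left
    obtain ⟨x₀, u, g₀, hx₀, hfr₀, huz, hux, hne, hg₀⟩ := MThirteen.Row.hasPair
    obtain ⟨k, hk⟩ := conj_six h MThirteen.Row.trNe I.ranks I.six
      (fun x hx h2 => ⟨(good_of_inputs h I hx h2 : Good.{0} _).simple, (good_of_inputs h I hx h2 : Good.{0} _).nc⟩)
      hx₀ hfr₀ huz hux hne hg₀ hx' h2
    have h5 := card_XT_conj k (x' : Mon) t'
    rw [hk] at h5
    rw [← h5] at h14
    have e1 : ∀ a : Mon, (k * g⁻¹) * a * (k * g⁻¹)⁻¹ = k * (g⁻¹ * a * g⁻¹⁻¹) * k⁻¹ := fun a => by group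
    have ex : (x₀ : Mon) = (k * g⁻¹) * x * (k * g⁻¹)⁻¹ := by rw [← hk, e1, hyx]
    have et : k * t' * k⁻¹ = (k * g⁻¹) * t * (k * g⁻¹)⁻¹ := by rw [e1, ht']
    rw [← card_XT_conj (k * g⁻¹) y t, ← et]
    refine zero_nine (t := k * t' * k⁻¹) hx₀ hfr₀ (by rw [← hto']; exact MulEquiv.orderOf_eq (MulAut.conj k) t')
      (fun g' hg' => htz' (g' * k) (by rw [← hg']; group)) (by rw [← hk]; exact LThreeB.conj_comm' hyt'.symm) h14
      (y := (k * g⁻¹) * y * (k * g⁻¹)⁻¹) (by rw [ex]; exact hcj _) ?_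
    rw [et]
    exact hcj2 _
  · left
    obtain ⟨e⟩ := LThreeB.isoTh_of_inputs h I hx' h2
    obtain ⟨τ, hτ, hd⟩ := card_XT_dvd Nat.prime_three (by norm_num) hx'' hto' hyt'
    rw [LThreeB.card_centralizer_congr e, card_inv_th (by rw [MulEquiv.orderOf_eq, hτ]), hXT] at hd
    have hle : XT y t ≤ XT x t := by
      intro c hc
      obtain ⟨h3, h4⟩ := mem_XT.1 hc
      refine mem_XT.2 ⟨?_, h4⟩
      rw [← hy]
      exact ((show Commute c y from h3).pow_right 3).eq
    exact (Nat.le_of_dvd (by norm_num) ((card_dvd_of_le hle).trans hd)).trans (by norm_num)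
  · right
    exact BThree.fi_type hx' h2 (k := g) (by rw [hyx]; group) htt ht1 htz hxt.symm

/-! ### The Baby Monster -/

/-- `|C_{C(t)}(a)| = 2 |C_X(a)|` for `a` of odd order -/
theorem card_cent_odd {M : Type u} [Group M] [Finite M] {t : M} {X : Type v} [Group X]
    (h2 : Nat.card ↥(center ↥(centralizer ({t} : Set M))) = 2)
    (e : ↥(centralizer ({t} : Set M)) ⧸ center ↥(centralizer ({t} : Set M)) ≃* X) {r : ℕ}
    (hr : Odd r) {x : ↥(centralizer ({t} : Set M))} (hxr : x ^ r = 1) :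
    Nat.card ↥(centralizer ({x} : Set ↥(centralizer ({t} : Set M)))) =
      Nat.card ↥(centralizer ({e (QuotientGroup.mk x)} : Set X)) * 2 := by
  have hXf : Finite X := Finite.of_equiv _ e.toEquiv
  let E : Subgroup M := centralizer ({t} : Set M)
  let Z : Subgroup ↥(centralizer ({t} : Set M)) := center ↥(centralizer ({t} : Set M))
  let y : X := e (QuotientGroup.mk x)
  let CE : Subgroup ↥E := centralizer ({x} : Set ↥E)
  have hmem : ∀ c : CE, e (QuotientGroup.mk (c : ↥E)) ∈ centralizer ({y} : Set X) := by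
    intro c
    rw [mem_centralizer_singleton_iff]
    show e _ * e _ = e _ * e _
    rw [← map_mul, ← map_mul]
    congr 1
    exact congrArg (QuotientGroup.mk (s := Z)) (mem_centralizer_singleton_iff.1 c.2)
  let g : CE →* ↥(centralizer ({y} : Set X)) :=
    ((e.toMonoidHom.comp (QuotientGroup.mk' Z)).comp CE.subtype).codRestrict _ hmem
  have hg : Function.Surjective g := by
    rintro ⟨w, hw⟩
    obtain ⟨c, hc⟩ := QuotientGroup.mk_surjective (e.symm w)
    have h3 : x * c = c * x := by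
      refine lift_comm le_rfl h2 hr hxr ?_
      rw [hc]
      apply e.injective
      rw [map_mul, map_mul, e.apply_symm_apply]
      exact (mem_centralizer_singleton_iff.1 hw).symm
    refine ⟨⟨c, mem_centralizer_singleton_iff.2 h3.symm⟩, Subtype.ext ?_⟩
    show e (QuotientGroup.mk c) = w
    rw [hc, e.apply_symm_apply]
  have hgk : Nat.card g.ker = 2 := by
    rw [← h2]
    refine Nat.card_congr
      { toFun := fun k => ⟨((k : CE) : ↥E), ?_⟩
        invFun := fun k => ⟨⟨k, mem_centralizer_singleton_iff.2 (Subgroup.mem_center_iff.1 k.2 x).symm⟩, ?_⟩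
        left_inv := fun k => rfl
        right_inv := fun k => rfl }
    · have h3 : e (QuotientGroup.mk ((k : CE) : ↥E)) = 1 := congrArg Subtype.val (MonoidHom.mem_ker.1 k.2)
      rw [map_eq_one_iff e e.injective] at h3
      exact (QuotientGroup.eq_one_iff _).1 h3
    · rw [MonoidHom.mem_ker]
      apply Subtype.ext
      show e (QuotientGroup.mk (k : ↥E)) = 1
      rw [(QuotientGroup.eq_one_iff _).2 k.2, map_one]
  show Nat.card CE = Nat.card ↥(centralizer ({y} : Set X)) * 2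
  rw [Subgroup.card_eq_card_quotient_mul_card_subgroup g.ker, hgk,
    Nat.card_congr (QuotientGroup.quotientKerEquivOfSurjective g hg).toEquiv]

/-- **Elements of order nine.** -/
theorem nine_le {L : Type u} [Group L] (h : Spor.IsoB L) {y : L} (hy : orderOf y = 9) :
    Nat.card ↥(centralizer ({y} : Set L)) ≤ 1224440064 := by
  have hfM : Finite Mon := MThirteen.Row.finite
  have hN := NotCT.Orders.b h
  have hfin : Finite L := Nat.finite_of_card_ne_zero (by rw [hN]; norm_num)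
  obtain ⟨t, ht, h2, ⟨e⟩⟩ := exists_cover h
  have hto := MThirteen.Row.ta_order ht
  have ht1 : t ≠ 1 := by
    rintro rfl
    rw [orderOf_one] at hto
    omega
  have htt : t * t = 1 := by rw [← pow_two, ← hto, pow_orderOf_eq_one]
  -- a lift of order nine
  obtain ⟨g, hg⟩ := QuotientGroup.mk_surjective (e.symm y)
  have hge : e (QuotientGroup.mk g) = y := by
    show e (QuotientGroup.mk g) = y
    rw [hg, e.apply_symm_apply]
  have hy9 : y ^ 9 = 1 := by rw [← hy, pow_orderOf_eq_one]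
  have hsq : ∀ c : ↥(centralizer ({t} : Set Mon)), e (QuotientGroup.mk c) = 1 → c ^ 2 = 1 := by
    intro c hc
    rw [map_eq_one_iff e e.injective, QuotientGroup.eq_one_iff, H480.Ore.center_cases ht1 h2] at hc
    apply Subtype.ext
    show (c : Mon) ^ 2 = 1
    rcases hc with hc | hc
    · rw [hc, one_pow]
    · rw [hc, pow_two, htt]
  obtain ⟨a, ha⟩ : ∃ a, a = g ^ 10 := ⟨_, rfl⟩
  have ha9 : a ^ 9 = 1 := by
    have h3 : e (QuotientGroup.mk (g ^ 9)) = 1 := by rw [QuotientGroup.mk_pow, map_pow, hge, hy9]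
    have h4 := hsq _ h3
    rw [ha, ← pow_mul, show 10 * 9 = 9 * 2 * 5 by norm_num, pow_mul, pow_mul, h4, one_pow]
  have hae : e (QuotientGroup.mk a) = y := by
    rw [ha, QuotientGroup.mk_pow, map_pow, hge, show 10 = 9 + 1 by norm_num, pow_succ, hy9, one_mul]
  obtain ⟨x, hx⟩ : ∃ x, x = a ^ 3 := ⟨_, rfl⟩
  have hxe : e (QuotientGroup.mk x) = y ^ 3 := by rw [hx, QuotientGroup.mk_pow, map_pow, hae]
  have hx3 : x ^ 3 = 1 := by rw [hx, ← pow_mul, ha9]
  have hy3 : y ^ 3 ≠ 1 := by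
    intro h3
    have h4 := orderOf_dvd_of_pow_eq_one h3
    rw [hy] at h4
    norm_num at h4
  have hxo : orderOf x = 3 := by
    have : Fact (Nat.Prime 3) := ⟨Nat.prime_three⟩
    refine orderOf_eq_prime hx3 ?_
    rintro h3
    exact hy3 (by rw [← hxe, h3, QuotientGroup.mk_one, map_one])
  have hnF : ¬ FiType t (x : Mon) := fun hF => H480.Ore.no_cube ht h2 e hxo hF y hxe.symm
  -- in the Monster
  have k3 : (a : Mon) ^ 3 = x := by rw [hx, Subgroup.coe_pow]
  have k4 : orderOf (x : Mon) = 3 := by rw [Subgroup.orderOf_coe, hxo]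
  have h14 : ¬ 3 ^ 14 ∣ Nat.card ↥(XT (x : Mon) t) := by
    have h3 := card_cent h2 e Nat.prime_three (by norm_num) hxo
    rw [← Nat.card_congr (centXT x).toEquiv] at h3
    rw [h3]
    intro h4
    have h5 : 3 ^ 14 ∣ Nat.card ↥(centralizer ({e (QuotientGroup.mk x)} : Set L)) :=
      Nat.Coprime.dvd_of_dvd_mul_right (by norm_num) h4
    have h6 := h5.trans (Subgroup.card_subgroup_dvd_card _)
    rw [hN] at h6
    norm_num at h6
  have h5 := (mon_nine k4 ht (mem_centralizer_singleton_iff.1 x.2) h14 k3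
    (mem_centralizer_singleton_iff.1 a.2)).resolve_right hnF
  have h6 := card_cent_odd h2 e (by decide : Odd 9) ha9
  rw [← Nat.card_congr (centXT a).toEquiv, hae] at h6
  have h7 : Nat.card ↥(centralizer ({y} : Set L)) * 2 ≤ 2448880128 := h6 ▸ h5
  exact Nat.le_of_mul_le_mul_right (h7.trans (by norm_num)) (show 0 < 2 by norm_num)

end Cfsg.Agent.H570.TwoB.Nine
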